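import Groth.Agent.Flat2D.RatPointConn
import Groth.Agent.Sga3.H778.SecNbhd
import Groth.Agent.Sga3C.LocConn
import Groth.Agent.Sga4B.SmoothNormal
import Groth.Agent.Ega1.GenPts

/-!
# The union of the fibrewise components of a section of a smooth morphism is open

No quasi-compactness is assumed.
-/

set_option autoImplicit false
open CategoryTheory CategoryTheory.Limits AlgebraicGeometry

namespace K371.SecCompOpen

universe u

/-- A connected component of a smooth scheme over a field is irreducible. -/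
theorem isPreirreducible_connectedComponent {k : Type u} [Field k] {Z : Scheme.{u}}
    (f : Z ⟶ Spec (CommRingCat.of k)) [Smooth f] (w : Z) :
    IsPreirreducible (connectedComponent w) := by
  have h1 : IsLocallyNoetherian Z := LocallyOfFiniteType.isLocallyNoetherian f
  have h2 := Groth.Agent.Sga3C.LocConn.locallyConnectedSpace_of_isLocallyNoetherian Z
  let O : Z.Opens := ⟨connectedComponent w, isOpen_connectedComponent⟩
  have h3 : ConnectedSpace O := by
    have : ConnectedSpace (connectedComponent w) :=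
      isConnected_iff_connectedSpace.1 isConnected_connectedComponent
    exact this
  have h4 : IsLocallyNoetherian (O : Scheme.{u}) :=
    LocallyOfFiniteType.isLocallyNoetherian (O.ι ≫ f)
  have h5 : IsIntegral (O : Scheme.{u}) := by
    rw [Groth.Agent.Ega1.GenPts.isIntegral_iff]
    exact ⟨h3, fun x =>
      (Groth.Agent.Sga4B.SmoothNormal.isNormalScheme_of_smooth (O.ι ≫ f) x).1⟩
  have h6 : IsPreirreducible (Set.univ : Set O) := by
    have : IrreducibleSpace (O : Scheme.{u}) := inferInstance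
    exact (IrreducibleSpace.isIrreducible_univ (O : Scheme.{u})).isPreirreducible
  have h7 := h6.image O.ι O.ι.continuous.continuousOn
  rw [Set.image_univ, Scheme.Opens.range_ι] at h7
  exact h7

theorem isPreirreducible_connectedComponentIn {X S : Scheme.{u}} (f : X ⟶ S) [Smooth f] (s : S)
    (x : X) (hx : f x = s) : IsPreirreducible (connectedComponentIn (f ⁻¹' {s}) x) := by
  obtain ⟨w, rfl⟩ : ∃ w : f.fiber s, f.fiberι s w = x := by
    have : x ∈ Set.range (f.fiberι s) := by rw [f.range_fiberι]; exact hx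
    exact this
  rw [Groth.Agent.Flat2D.RatPointConn.connectedComponentIn_preimage_singleton]
  have hsm : Smooth (f.fiberToSpecResidueField s) :=
    inferInstanceAs (Smooth (pullback.snd f (S.fromSpecResidueField s)))
  exact (@isPreirreducible_connectedComponent (S.residueField s) _ _
    (f.fiberToSpecResidueField s) hsm w).image _ (f.fiberι s).continuous.continuousOn

/-- The case of a quasi-separated base. -/
theorem isOpen_of_quasiSeparatedSpace {S X : Scheme.{u}} [QuasiSeparatedSpace X]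
    [QuasiSeparatedSpace S] (f : X ⟶ S) [Smooth f] (e : S ⟶ X) (he : e ≫ f = 𝟙 S) :
    IsOpen (MoreMor.sectionComponents f e) := by
  rw [isOpen_iff_mem_nhds]
  intro x hx
  have hfe (s : S) : f (e s) = s := by
    rw [← Scheme.Hom.comp_apply, he]; rfl
  obtain ⟨W₁, hW₁, h1, -⟩ := exists_isAffineOpen_mem_and_subset
    (X := X) (x := e (f x)) (U := ⊤) trivial
  obtain ⟨W₂, hW₂, h2, -⟩ := exists_isAffineOpen_mem_and_subset
    (X := X) (x := x) (U := ⊤) trivial
  let W : X.Opens := W₁ ⊔ W₂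
  have hWc : CompactSpace (W : Scheme.{u}) := by
    have : IsCompact ((W₁ : Set X) ∪ (W₂ : Set X)) := hW₁.isCompact.union hW₂.isCompact
    exact isCompact_iff_compactSpace.1 this
  have hWs : QuasiSeparatedSpace (W : Scheme.{u}) := quasiSeparatedSpace_of_quasiSeparated W.ι
  have hqc : QuasiCompact (W.ι ≫ f) := inferInstance
  have hqs : QuasiSeparated (W.ι ≫ f) := inferInstance
  let S₁ : S.Opens := e ⁻¹ᵁ W
  have hs₁ : f x ∈ S₁ := Or.inl h1
  have hr : Set.range (S₁.ι ≫ e) ⊆ Set.range W.ι := by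
    rw [Scheme.Opens.range_ι]
    rintro _ ⟨y, rfl⟩
    rw [Scheme.Hom.comp_apply]
    exact y.2
  let l : (S₁ : Scheme.{u}) ⟶ W := IsOpenImmersion.lift W.ι (S₁.ι ≫ e) hr
  have hl : l ≫ W.ι = S₁.ι ≫ e := IsOpenImmersion.lift_fac _ _ _
  let e₁ : (S₁ : Scheme.{u}) ⟶ pullback (W.ι ≫ f) S₁.ι :=
    pullback.lift l (𝟙 _) (by rw [← Category.assoc, hl, Category.assoc, he, Category.comp_id,
      Category.id_comp])
  have he₁ : e₁ ≫ pullback.fst (W.ι ≫ f) S₁.ι = l := pullback.lift_fst _ _ _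
  have he₂ : e₁ ≫ pullback.snd (W.ι ≫ f) S₁.ι = 𝟙 _ := pullback.lift_snd _ _ _
  have ho := Groth.Agent.Sga3.H778.SecNbhd.isOpen_sectionComponents
    (pullback.snd (W.ι ≫ f) S₁.ι) e₁ he₂
  let j : pullback (W.ι ≫ f) S₁.ι ⟶ X := pullback.fst (W.ι ≫ f) S₁.ι ≫ W.ι
  have hj : IsOpenImmersion j := inferInstance
  have hjf : j ≫ f = pullback.snd (W.ι ≫ f) S₁.ι ≫ S₁.ι := by
    rw [Category.assoc]; exact pullback.condition
  have hej : e₁ ≫ j = S₁.ι ≫ e := by
    rw [← Category.assoc, he₁, hl]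
  have hsub := Groth.Agent.Sga3.H778.SecNbhd.sectionComponents_subset_preimage f e
    (pullback.snd (W.ι ≫ f) S₁.ι) e₁ j S₁.ι hjf hej he₂
  refine Filter.mem_of_superset ((j.isOpenEmbedding.isOpenMap _ ho).mem_nhds ?_)
    (Set.image_subset_iff.2 hsub)
  -- the point
  obtain ⟨x', hx1, hx2⟩ := Scheme.exists_preimage_of_isPullback
    (IsPullback.of_hasPullback (W.ι ≫ f) S₁.ι) (⟨x, Or.inr h2⟩ : W) (⟨f x, hs₁⟩ : S₁) rfl
  have hjx : j x' = x := by
    show (pullback.fst (W.ι ≫ f) S₁.ι ≫ W.ι) x' = x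
    rw [Scheme.Hom.comp_apply, hx1]; rfl
  refine ⟨x', ?_, hjx⟩
  have hxm : x ∈ connectedComponentIn (f ⁻¹' {f x}) (e (f x)) := hx
  have hpre : IsPreirreducible (j ⁻¹' connectedComponentIn (f ⁻¹' {f x}) (e (f x))) :=
    (isPreirreducible_connectedComponentIn f (f x) (e (f x)) (hfe _)).preimage
      j.isOpenEmbedding
  show x' ∈ connectedComponentIn
    (pullback.snd (W.ι ≫ f) S₁.ι ⁻¹' {pullback.snd (W.ι ≫ f) S₁.ι x'})
    (e₁ (pullback.snd (W.ι ≫ f) S₁.ι x'))
  rw [hx2]
  have hje : j (e₁ ⟨f x, hs₁⟩) = e (f x) := by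
    rw [← Scheme.Hom.comp_apply, hej, Scheme.Hom.comp_apply]; rfl
  refine hpre.isPreconnected.subset_connectedComponentIn ?_ ?_ ?_
  · rw [Set.mem_preimage, hje]
    exact mem_connectedComponentIn (hfe _)
  · intro y hy
    have h5' : j y ∈ f ⁻¹' {f x} := connectedComponentIn_subset _ _ hy
    have h5 : f (j y) = f x := h5'
    rw [← Scheme.Hom.comp_apply, hjf, Scheme.Hom.comp_apply] at h5
    exact Subtype.ext h5
  · rw [Set.mem_preimage, hjx]
    exact hxm

theorem isOpen_sectionComponents {S X : Scheme.{u}} [QuasiSeparatedSpace X]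
    (f : X ⟶ S) [Smooth f] (e : S ⟶ X) (he : e ≫ f = 𝟙 S) :
    IsOpen (MoreMor.sectionComponents f e) := by
  rw [isOpen_iff_mem_nhds]
  intro x hx
  obtain ⟨S₀, hS₀, hs, -⟩ := exists_isAffineOpen_mem_and_subset
    (X := S) (x := f x) (U := ⊤) trivial
  have : IsAffine (S₀ : Scheme.{u}) := hS₀
  have hc : IsPullback (pullback.fst f S₀.ι) (pullback.snd f S₀.ι) f S₀.ι :=
    IsPullback.of_hasPullback _ _
  have : QuasiSeparatedSpace ↥(pullback f S₀.ι) :=
    quasiSeparatedSpace_of_quasiSeparated (pullback.fst f S₀.ι)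
  let e₀ : (S₀ : Scheme.{u}) ⟶ pullback f S₀.ι := pullback.lift (S₀.ι ≫ e) (𝟙 _)
    (by rw [Category.assoc, he, Category.comp_id, Category.id_comp])
  have h1 := isOpen_of_quasiSeparatedSpace (pullback.snd f S₀.ι) e₀ (pullback.lift_snd _ _ _)
  rw [Groth.Agent.Flat2D.RatPointConn.sectionComponents_baseChange f e he _ _ _ hc e₀
    (pullback.lift_snd _ _ _) (pullback.lift_fst _ _ _)] at h1
  have h2 := (pullback.fst f S₀.ι).isOpenEmbedding.isOpenMap _ h1
  rw [Set.image_preimage_eq_inter_range] at h2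
  refine Filter.mem_of_superset (h2.mem_nhds ⟨hx, ?_⟩) Set.inter_subset_left
  obtain ⟨x', hx1, -⟩ := Scheme.exists_preimage_of_isPullback hc x (⟨f x, hs⟩ : S₀) rfl
  exact ⟨x', hx1⟩

end K371.SecCompOpen
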