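import Groth.Agent.Flat2D.RatPointConn
import Groth.Agent.VarietyB.GabberConn
import Groth.Agent.Sga3.H778.SecNbhd

/-!
# Connected components of fibres and base change
-/

set_option autoImplicit false
open CategoryTheory CategoryTheory.Limits AlgebraicGeometry

namespace K371.FibComp

universe u

lemma image_connectedComponent_homeo {A B : Type*} [TopologicalSpace A] [TopologicalSpace B]
    (e : A ≃ₜ B) (x : A) : e '' connectedComponent x = connectedComponent (e x) := by
  apply subset_antisymm
  · exact e.continuous.image_connectedComponent_subset x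
  · have h := e.symm.continuous.image_connectedComponent_subset (e x)
    rw [e.symm_apply_apply] at h
    intro y hy
    exact ⟨e.symm y, h ⟨y, hy, rfl⟩, e.apply_symm_apply y⟩

/-- Gabber's theorem for a cartesian square. -/
theorem image_connectedComponent_of_isPullback {k K : Type u} [Field k] [Field K] [Algebra k K]
    {X P : Scheme.{u}} {f : X ⟶ Spec (CommRingCat.of k)} {p : P ⟶ X}
    {q : P ⟶ Spec (CommRingCat.of K)}
    (h : IsPullback p q f (Spec.map (CommRingCat.ofHom (algebraMap k K)))) (x : P) :
    p '' connectedComponent x = connectedComponent (p x) := by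
  have e1 : p = h.isoPullback.hom ≫ pullback.fst _ _ := (h.isoPullback_hom_fst).symm
  have e2 : h.isoPullback.hom '' connectedComponent x =
      connectedComponent (h.isoPullback.hom x) :=
    image_connectedComponent_homeo (Scheme.homeoOfIso h.isoPullback) x
  rw [e1, Scheme.Hom.comp_apply,
    ← Groth.Agent.VarietyB.GabberConn.image_connectedComponent k X f K (h.isoPullback.hom x), ← e2,
    ← Set.image_comp]
  rfl

/-- The image of the connected component of a fibre of a base change is the connected component of
the fibre. -/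
theorem image_connectedComponentIn {X Y X' Y' : Scheme.{u}} {f : X ⟶ Y}
    {f' : X' ⟶ Y'} {g' : X' ⟶ X} {g : Y' ⟶ Y} (hc : IsPullback g' f' f g) (x' : X') (y' : Y')
    (hx : f' x' = y') :
    g' '' connectedComponentIn (f' ⁻¹' {y'}) x' = connectedComponentIn (f ⁻¹' {g y'}) (g' x') := by
  have h1 : IsPullback (f.fiberι (g y')) (f.fiberToSpecResidueField (g y')) f
      (Y.fromSpecResidueField (g y')) := IsPullback.of_hasPullback _ _
  have h2 : IsPullback (f'.fiberι y') (f'.fiberToSpecResidueField y') f'
      (Y'.fromSpecResidueField y') := IsPullback.of_hasPullback _ _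
  have h3 := (h2.flip.paste_vert hc.flip).flip
  obtain ⟨p, hp, hp'⟩ := Groth.Agent.Flat2D.GeomFib.exists_isPullback_lift h1 h3
    (Spec.map (g.residueFieldMap y')) (g.SpecMap_residueFieldMap_fromSpecResidueField y')
  let : Algebra (Y.residueField (g y')) (Y'.residueField y') :=
    (g.residueFieldMap y').hom.toAlgebra
  obtain ⟨w, hw⟩ : ∃ w : f'.fiber y', f'.fiberι y' w = x' := by
    have : x' ∈ Set.range (f'.fiberι y') := by rw [f'.range_fiberι]; exact hx
    exact this
  have hcomm (w : f'.fiber y') : f.fiberι (g y') (p w) = g' (f'.fiberι y' w) := by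
    rw [← Scheme.Hom.comp_apply, hp', Scheme.Hom.comp_apply]
  have hpw : p '' connectedComponent w = connectedComponent (p w) :=
    image_connectedComponent_of_isPullback (k := Y.residueField (g y'))
      (K := Y'.residueField y') hp w
  subst hw
  rw [← hcomm, Groth.Agent.Flat2D.RatPointConn.connectedComponentIn_preimage_singleton,
    Groth.Agent.Flat2D.RatPointConn.connectedComponentIn_preimage_singleton, ← hpw,
    ← Set.image_comp, ← Set.image_comp]
  apply Set.image_congr
  intro a _
  exact (hcomm a).symm

/-- Fibrewise components of a smooth morphism meeting the image of a universally open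
multisection. -/
theorem exists_opens {S S' X : Scheme.{u}} (f : X ⟶ S)
    [Smooth f] [QuasiCompact f] [QuasiSeparated f] (g : S' ⟶ S) [UniversallyOpen g] (e : S' ⟶ X)
    (he : e ≫ f = g) :
    ∃ U : X.Opens, ∀ s : S, (U : Set ↥X) ∩ f.base ⁻¹' {s} =
      ⋃ x ∈ Set.range e.base ∩ f.base ⁻¹' {s}, connectedComponentIn (f.base ⁻¹' {s}) x := by
  have hc : IsPullback (pullback.fst f g) (pullback.snd f g) f g := IsPullback.of_hasPullback _ _
  let e' : S' ⟶ pullback f g := pullback.lift e (𝟙 S') (by simpa using he)
  have he1 : e' ≫ pullback.fst f g = e := pullback.lift_fst _ _ _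
  have he2 : e' ≫ pullback.snd f g = 𝟙 S' := pullback.lift_snd _ _ _
  have ho := Groth.Agent.Sga3.H778.SecNbhd.isOpen_sectionComponents (pullback.snd f g) e' he2
  have hfst : IsOpenMap (pullback.fst f g) := (pullback.fst f g).isOpenMap
  refine ⟨⟨_, hfst _ ho⟩, fun s => ?_⟩
  have h2 (y : S') : pullback.snd f g (e' y) = y := by
    rw [← Scheme.Hom.comp_apply, he2]; rfl
  have h1 (y : S') : pullback.fst f g (e' y) = e y := by
    rw [← Scheme.Hom.comp_apply, he1]
  have h3 (y : S') : f (e y) = g y := by
    rw [← Scheme.Hom.comp_apply, he]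
  ext x
  constructor
  · rintro ⟨⟨x', hx', rfl⟩, hxs⟩
    have hxs' : f (pullback.fst f g x') = s := hxs
    have h4 : f (pullback.fst f g x') = g (pullback.snd f g x') := by
      rw [← Scheme.Hom.comp_apply, ← Scheme.Hom.comp_apply, pullback.condition]
    have h5 := image_connectedComponentIn hc (e' (pullback.snd f g x')) (pullback.snd f g x')
      (h2 _)
    rw [h1, ← h4, hxs'] at h5
    refine Set.mem_biUnion (x := e (pullback.snd f g x')) ⟨⟨_, rfl⟩, ?_⟩ ?_
    · show f (e _) = s
      rw [h3, ← h4, hxs']
    · have h6 : pullback.fst f g x' ∈ connectedComponentIn (f ⁻¹' {s})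
          (e (pullback.snd f g x')) := by
        rw [← h5]
        exact ⟨x', hx', rfl⟩
      exact h6
  · intro hx
    simp only [Set.mem_iUnion] at hx
    obtain ⟨z, ⟨⟨y, rfl⟩, hz⟩, hx⟩ := hx
    have hz' : g y = s := by
      rw [← h3]; exact hz
    have h5 := image_connectedComponentIn hc (e' y) y (h2 _)
    rw [h1, hz'] at h5
    have hx' : x ∈ connectedComponentIn (f ⁻¹' {s}) (e y) := hx
    refine ⟨?_, connectedComponentIn_subset _ _ hx⟩
    rw [← h5] at hx'
    obtain ⟨x', hx', rfl⟩ := hx'
    refine ⟨x', ?_, rfl⟩
    have h6' : x' ∈ pullback.snd f g ⁻¹' {y} := connectedComponentIn_subset _ _ hx'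
    have h6 : pullback.snd f g x' = y := h6'
    show x' ∈ connectedComponentIn _ (e' (pullback.snd f g x'))
    rw [h6]
    exact hx'

end K371.FibComp
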