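import Groth.Agent.Flat2H.PCBridge
import Groth.Agent.Flat2H.TorDimPoly
import Groth.Agent.Flat2H.TorDimHom

/-!
# Perfect modules have finite tor dimension; tor dimension is local on the spectrum
-/

set_option autoImplicit false
universe u

attribute [local instance] HasDerivedCategory.standard

open CategoryTheory CategoryTheory.Limits
open Groth.Agent.Flat2H Groth.Agent.Flat2H.TorDim Groth.Agent.Flat2H.PCModule
open scoped TensorProduct

namespace K371.PerfTor

variable {R : Type u} [CommRing R]

/-- The cycles of a bounded above complex of flat modules, exact in positive degrees, are flat in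
nonnegative degrees. -/
theorem flat_ker_of_le (E : CochainComplex (ModuleCat.{u} R) ℤ) (b : ℤ)
    (hb : DRing.VanishesAbove E b) (hE : ∀ i, Module.Flat R (E.X i))
    (hex : ∀ i, 0 < i → E.ExactAt i) (k : ℕ) : ∀ (i j : ℤ), i + 1 = j → b + 1 ≤ i + k → 0 ≤ i →
      DRing.HasTorDimLE R 0 (LinearMap.ker (E.d i j).hom) := by
  induction k with
  | zero =>
    intro i j hij hik hi
    have hz : IsZero (E.X i) := hb i (by simp at hik; omega)
    have : Subsingleton (E.X i) := ModuleCat.subsingleton_of_isZero hz
    have : Module.Flat R (LinearMap.ker (E.d i j).hom) := inferInstance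
    exact HasTorDimLE.of_flat 0
  | succ k ih =>
    intro i j hij hik hi
    have hj := ih j (j + 1) rfl (by push_cast at hik; omega) (by omega)
    have hex' := exact_of_exactAt E i j (j + 1) hij rfl (hex j (by omega))
    let g : E.X i →ₗ[R] LinearMap.ker (E.d j (j + 1)).hom :=
      LinearMap.codRestrict _ (E.d i j).hom (fun x => hex'.apply_apply_eq_zero x)
    have hg : Function.Surjective g := by
      rintro ⟨y, hy⟩
      obtain ⟨x, hx⟩ := (hex' y).1 hy
      exact ⟨x, Subtype.ext hx⟩
    have hker : LinearMap.ker g = LinearMap.ker (E.d i j).hom := by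
      rw [LinearMap.ker_codRestrict]
    rw [← hker]
    have := hE i
    exact HasTorDimLE.left (LinearMap.ker g).subtype g (Submodule.subtype_injective _) hg
      (by intro x; simp) (HasTorDimLE.of_flat 0) (HasTorDimLE.mono hj (Nat.zero_le _))

theorem hasTorDimLE_range (E : CochainComplex (ModuleCat.{u} R) ℤ) (r : ℕ)
    (hflat : ∀ i, Module.Flat R (E.X i)) (hlow : ∀ i : ℤ, i < -r → IsZero (E.X i))
    (hex : ∀ i : ℤ, i < 0 → E.ExactAt i) : ∀ (j : ℕ) (i i' : ℤ), i = -r + j → i + 1 = i' → i < 0 →
      DRing.HasTorDimLE R j (LinearMap.range (E.d i i').hom) := by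
  intro j
  induction j with
  | zero =>
    intro i i' hi hi' hi0
    have hE := PCModule.exact_of_exactAt E (i - 1) i i' (by omega) hi' (hex i hi0)
    have hz := hlow (i - 1) (by omega)
    rw [ModuleCat.isZero_iff_subsingleton] at hz
    have hinj : Function.Injective (E.d i i').hom := by
      rw [← LinearMap.ker_eq_bot, hE.linearMap_ker_eq, LinearMap.range_eq_bot]
      ext x
      rw [Subsingleton.elim x 0, map_zero, map_zero]
    have := hflat i
    exact HasTorDimLE.of_linearEquiv (LinearEquiv.ofInjective _ hinj) (HasTorDimLE.of_flat 0)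
  | succ j ih =>
    intro i i' hi hi' hi0
    have hE := PCModule.exact_of_exactAt E (i - 1) i i' (by omega) hi' (hex i hi0)
    have hr := ih (i - 1) i (by push_cast at hi; omega) (by omega) (by omega)
    have := hflat i
    rw [hasTorDimLE_succ_iff_ker (E.d i i').hom.rangeRestrict (LinearMap.surjective_rangeRestrict _) j]
    refine HasTorDimLE.of_linearEquiv (LinearEquiv.ofEq _ _ ?_) hr
    rw [LinearMap.ker_rangeRestrict, hE.linearMap_ker_eq]

/-- A module represented in the derived category by a bounded complex of flat modules has finite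
tor dimension. -/
theorem hasFiniteTorDim_of_iso (E : CochainComplex (ModuleCat.{u} R) ℤ) (r : ℕ) (b : ℤ)
    (hlow : ∀ i : ℤ, i < -r → IsZero (E.X i)) (hb : DRing.VanishesAbove E b)
    (hE : ∀ i, Module.Flat R (E.X i))
    (M : Type u) [AddCommGroup M] [Module R M] (e : DRing.toD E ≅ Dual.inD R M) :
    DRing.HasTorDimLE R (r + 1) M := by
  have hex := exactAt_of_iso E M e
  have hker : DRing.HasTorDimLE R 0 (LinearMap.ker (E.d 0 1).hom) :=
    flat_ker_of_le E b hb hE (fun i hi => hex i hi.ne') (b + 1).toNat 0 1 rfl
      (by have := Int.self_le_toNat (b + 1); omega) le_rfl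
  have hran : DRing.HasTorDimLE R r (LinearMap.range (E.d (-1) 0).hom) := by
    cases r with
    | zero =>
      have hz := hlow (-1) (by norm_num)
      rw [ModuleCat.isZero_iff_subsingleton] at hz
      have hb : LinearMap.range (E.d (-1) 0).hom = ⊥ := by
        rw [LinearMap.range_eq_bot]
        ext x
        rw [Subsingleton.elim x 0, map_zero, map_zero]
      rw [hb]
      exact HasTorDimLE.of_flat 0
    | succ s =>
      exact HasTorDimLE.mono (hasTorDimLE_range E (s + 1) hE hlow (fun i hi => hex i hi.ne) s (-1) 0
        (by push_cast; omega) (by norm_num) (by norm_num)) (Nat.le_succ s)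
  -- the homology in degree zero
  have e0 : E.homology 0 ≅ (E.sc' (-1) 0 1).homology :=
    (ShortComplex.homologyMapIso (E.isoSc' (-1) 0 1 (by simp) (by simp)))
  let S := E.sc' (-1) 0 1
  have e1 := S.moduleCatHomologyIso
  have e2 := ((homologyZeroIso E M e).symm ≪≫ e0 ≪≫ e1).toLinearEquiv
  -- quotient of ker by range
  refine HasTorDimLE.of_linearEquiv e2.symm ?_
  change DRing.HasTorDimLE R (r + 1) (LinearMap.ker S.g.hom ⧸ LinearMap.range S.moduleCatToCycles)
  have hle : LinearMap.range S.f.hom ≤ LinearMap.ker S.g.hom := by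
    rintro _ ⟨x, rfl⟩
    exact S.moduleCat_zero_apply x
  have hre : LinearMap.range S.moduleCatToCycles =
      (LinearMap.range S.f.hom).submoduleOf (LinearMap.ker S.g.hom) := by
    ext ⟨x, hx⟩
    constructor
    · rintro ⟨y, hy⟩
      exact ⟨y, congrArg Subtype.val hy⟩
    · rintro ⟨y, hy⟩
      exact ⟨y, Subtype.ext hy⟩
  have hran' : DRing.HasTorDimLE R r (LinearMap.range S.moduleCatToCycles) := by
    rw [hre]
    exact HasTorDimLE.of_linearEquiv (Submodule.submoduleOfEquivOfLe hle).symm hran
  exact HasTorDimLE.right (LinearMap.range S.moduleCatToCycles).subtype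
    (LinearMap.range S.moduleCatToCycles).mkQ (Submodule.subtype_injective _)
    (Submodule.mkQ_surjective _) (LinearMap.exact_subtype_mkQ _) hran'
    (HasTorDimLE.mono hker (Nat.zero_le _))

/-- Perfect modules have finite tor dimension. -/
theorem hasFiniteTorDim_of_isPerfectModule (M : Type u) [AddCommGroup M] [Module R M]
    (h : DRing.IsPerfectModule R M) : DRing.HasFiniteTorDim R M := by
  obtain ⟨E, a, b, hab, hE, ⟨e⟩⟩ := h
  refine ⟨(-a).toNat + 1, hasFiniteTorDim_of_iso E (-a).toNat b (fun i hi => hab i (Or.inl ?_))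
    (fun i hi => hab i (Or.inr hi)) (fun i => ?_) M e⟩
  · have := Int.self_le_toNat (-a)
    omega
  · have := (hE i).2
    infer_instance

/-- Tor dimension can be checked at the maximal ideals. -/
theorem hasTorDimLE_of_localized_maximal (n : ℕ) : ∀ (M : Type u) [AddCommGroup M] [Module R M],
    (∀ (p : Ideal R) [p.IsMaximal], DRing.HasTorDimLE (Localization.AtPrime p) n
      (Localization.AtPrime p ⊗[R] M)) → DRing.HasTorDimLE R n M := by
  induction n with
  | zero =>
    intro M _ _ h
    rw [hasTorDimLE_zero_iff]
    refine Module.flat_of_isLocalized_maximal R M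
      (fun p hp => Localization.AtPrime p ⊗[R] M) (fun p hp => TensorProduct.mk R _ M 1) ?_
    intro p hp
    have h1 : Module.Flat (Localization.AtPrime p) (Localization.AtPrime p ⊗[R] M) :=
      hasTorDimLE_zero_iff.1 (h p)
    have h2 : Module.Flat R (Localization.AtPrime p) := IsLocalization.flat _ p.primeCompl
    exact Module.Flat.trans R (Localization.AtPrime p) _
  | succ n ih =>
    intro M _ _ h
    have hs : Function.Surjective (Finsupp.linearCombination R (id : M → M)) :=
      fun m => ⟨Finsupp.single m 1, by simp⟩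
    rw [hasTorDimLE_succ_iff_ker _ hs]
    refine ih _ fun p hp => ?_
    exact (hasTorDimLE_succ_baseChange_iff (Localization.AtPrime p) _ hs n).1 (h p)

end K371.PerfTor
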